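import Mathlib
import Groth.Prelude.Def_EGA4b
import Groth.Agent.Lib.Helper12.IntegralDim
import Groth.Agent.Lib.Helper14.CatenaryDim

/-!
# An equidimensionality criterion via an integral normal extension (helper14)
-/

set_option autoImplicit false
universe u

namespace Groth.Agent.Lib.Helper14.ExcFC

open Order

/-- If the localization of `E` at the prime `M` is a domain, any minimal prime below `M` is the
kernel of `E → E_M`; in particular it lies below every prime contained in `M`. -/
theorem minimalPrime_le_of_isDomain_localization {E : Type*} [CommRing E] (M : Ideal E) [M.IsPrime]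
    [IsDomain (Localization.AtPrime M)] {Q : Ideal E} (hQ : Q ∈ minimalPrimes E) (hQM : Q ≤ M)
    {p : Ideal E} [p.IsPrime] (hpM : p ≤ M) : Q ≤ p := by
  let q₀ : Ideal E := RingHom.ker (algebraMap E (Localization.AtPrime M))
  haveI : q₀.IsPrime := RingHom.ker_isPrime _
  have hq₀ : ∀ (p' : Ideal E) [p'.IsPrime], p' ≤ M → q₀ ≤ p' := by
    intro p' _ hp' x hx
    rw [RingHom.mem_ker, IsLocalization.map_eq_zero_iff M.primeCompl] at hx
    obtain ⟨s, hs⟩ := hx
    have h1 : (s : E) * x ∈ p' := by rw [hs]; exact p'.zero_mem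
    rcases Ideal.IsPrime.mem_or_mem ‹p'.IsPrime› h1 with h | h
    · exact absurd (hp' h) s.2
    · exact h
  haveI : Q.IsPrime := hQ.1.1
  have h2 : Q ≤ q₀ := hQ.2 ⟨inferInstance, bot_le⟩ (hq₀ Q hQM)
  exact h2.trans (hq₀ p hpM)

/-- Let `R → E` be an injective integral map with `E` Noetherian, such that the localizations of
`E` at its maximal ideals are domains and all maximal ideals of `E` have height `dim R`. Then `R`
is equidimensional. -/
theorem isEquidim_of_integral_normal (R E : Type u) [CommRing R] [CommRing E]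
    [Algebra R E] [Algebra.IsIntegral R E]
    (hinj : Function.Injective (algebraMap R E))
    (hdom : ∀ (M : Ideal E) [M.IsMaximal], IsDomain (Localization.AtPrime M))
    (hht : ∀ (M : Ideal E) [M.IsMaximal], (M.height : WithBot ℕ∞) = ringKrullDim R) :
    EGA4.IsEquidim R := by
  intro Q hQ
  haveI : Q.IsPrime := hQ.1.1
  apply le_antisymm (ringKrullDim_quotient_le Q)
  obtain ⟨Q', -, hQ'prime, hQ'c⟩ := Ideal.exists_ideal_over_prime_of_isIntegral (S := E) Q
    (⊥ : Ideal E) (by
      rw [← RingHom.ker_eq_comap_bot, (RingHom.injective_iff_ker_eq_bot _).mp hinj]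
      exact bot_le)
  haveI := hQ'prime
  obtain ⟨Q'', hQ''min, hle⟩ := Ideal.exists_minimalPrimes_le (bot_le : (⊥ : Ideal E) ≤ Q')
  haveI hQ''prime : Q''.IsPrime := hQ''min.1.1
  have hc : Q''.comap (algebraMap R E) = Q := by
    apply le_antisymm
    · rw [← hQ'c]; exact Ideal.comap_mono hle
    · exact hQ.2 ⟨Ideal.comap_isPrime _ _, bot_le⟩ (by rw [← hQ'c]; exact Ideal.comap_mono hle)
  obtain ⟨M, hM, hQM⟩ := Ideal.exists_le_maximal Q'' hQ''prime.ne_top
  haveI := hM
  haveI := hdom M
  -- `ht M ≤ dim E/Q''`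
  have h1 : (M.height : WithBot ℕ∞) ≤ ringKrullDim (E ⧸ Q'') := by
    have := ringKrullDim_quotient_eq_coheight (⟨Q'', hQ''prime⟩ : PrimeSpectrum E)
    rw [this]
    have h2 : M.height ≤ coheight (⟨Q'', hQ''prime⟩ : PrimeSpectrum E) := by
      have h3 := PrimeSpectrum.height_eq_orderHeight (⟨M, hM.isPrime⟩ : PrimeSpectrum E)
      rw [show M.height = Order.height (⟨M, hM.isPrime⟩ : PrimeSpectrum E) from h3]
      apply Order.height_le
      intro p hp
      apply Order.length_le_coheight
      have hhead : p.head ≤ (⟨M, hM.isPrime⟩ : PrimeSpectrum E) := by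
        rw [← hp]; exact LTSeries.head_le_last p
      exact minimalPrime_le_of_isDomain_localization M hQ''min hQM hhead
    exact_mod_cast h2
  -- `dim E/Q'' ≤ dim R/Q`
  have h4 : ringKrullDim (E ⧸ Q'') ≤ ringKrullDim (R ⧸ Q''.comap (algebraMap R E)) :=
    Groth.Agent.Lib.Helper12.ringKrullDim_le_of_isIntegral
  rw [hc] at h4
  rw [← hht M]
  exact h1.trans h4

end Groth.Agent.Lib.Helper14.ExcFC
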