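import Mathlib
import Groth.Prelude.Def_Found
import Groth.Agent.Lib.Helper27.BrCpl2
import Groth.Agent.S0555

/-!
# Heights of the maximal ideals of `A' ⊗[A] B` for `A → B` completion-like and `A'` finite (helper14)
-/

set_option autoImplicit false
universe u

namespace Groth.Agent.Lib.Helper14.ExcFC

open IsLocalRing TensorProduct Groth.Agent.Lib.Helper27.BrCpl

attribute [local instance] Algebra.TensorProduct.rightAlgebra

section

variable (A B A' : Type u) [CommRing A] [CommRing B] [CommRing A'] [IsLocalRing A] [IsLocalRing B]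
  [IsNoetherianRing A] [IsNoetherianRing B]
  [Algebra A B] [IsLocalHom (algebraMap A B)] [Module.Flat A B] [Algebra A A'] [Module.Finite A A']

/-- the height of a maximal ideal of `A' ⊗[A] B` equals that of its contraction to `A'`. -/
theorem height_maximal_tensor
    (hres : ∀ b : B, ∃ a : A, b - algebraMap A B a ∈ maximalIdeal B)
    (hm : (maximalIdeal A).map (algebraMap A B) = maximalIdeal B)
    (M : Ideal (A' ⊗[A] B)) [M.IsMaximal] :
    M.height = (M.comap (algebraMap A' (A' ⊗[A] B))).height := by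
  haveI : Algebra.IsIntegral A A' := Algebra.IsIntegral.of_finite A A'
  haveI hmax : (M.comap (algebraMap A' (A' ⊗[A] B))).IsMaximal :=
    comap_includeLeft_isMaximal A B A' M
  haveI : M.LiesOver (M.comap (algebraMap A' (A' ⊗[A] B))) := ⟨rfl⟩
  haveI : IsNoetherianRing A' := IsNoetherianRing.of_finite A A'
  haveI : IsNoetherianRing (B ⊗[A] A') := IsNoetherianRing.of_finite B _
  haveI : IsNoetherianRing (A' ⊗[A] B) :=
    isNoetherianRing_of_ringEquiv _ (Algebra.TensorProduct.comm A B A').toRingEquiv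
  have h := Ideal.height_eq_height_add_of_liesOver_of_hasGoingDown
    (M.comap (algebraMap A' (A' ⊗[A] B))) M
  -- the contraction to `A` is the maximal ideal
  have hcA : (M.comap (algebraMap A' (A' ⊗[A] B))).comap (algebraMap A A') = maximalIdeal A :=
    IsLocalRing.eq_maximalIdeal (Ideal.isMaximal_comap_of_isIntegral_of_isMaximal _)
  have hcomm : (algebraMap A' (A' ⊗[A] B)).comp (algebraMap A A') =
      (algebraMap B (A' ⊗[A] B)).comp (algebraMap A B) := by
    ext a
    change algebraMap A A' a ⊗ₜ[A] (1 : B) = (1 : A') ⊗ₜ[A] algebraMap A B a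
    rw [Algebra.algebraMap_eq_smul_one, Algebra.algebraMap_eq_smul_one, TensorProduct.smul_tmul]
  have hle : (maximalIdeal B).map (algebraMap B (A' ⊗[A] B)) ≤
      (M.comap (algebraMap A' (A' ⊗[A] B))).map (algebraMap A' (A' ⊗[A] B)) := by
    rw [← hm, Ideal.map_map, ← hcomm, ← Ideal.map_map]
    apply Ideal.map_mono
    rw [Ideal.map_le_iff_le_comap, hcA]
  have hMle : M ≤ (M.comap (algebraMap A' (A' ⊗[A] B))).map (algebraMap A' (A' ⊗[A] B)) := by
    intro x hx
    obtain ⟨r, hr⟩ := exists_sub_tmul_one_mem A B A' hres x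
    have h1 : r ⊗ₜ[A] (1 : B) ∈ M := by
      have := M.sub_mem hx (map_maximalIdeal_le A B A' M hr)
      simpa using this
    have h2 : r ∈ M.comap (algebraMap A' (A' ⊗[A] B)) := h1
    have h3 : r ⊗ₜ[A] (1 : B) ∈
        (M.comap (algebraMap A' (A' ⊗[A] B))).map (algebraMap A' (A' ⊗[A] B)) :=
      Ideal.mem_map_of_mem _ h2
    have : x = (x - r ⊗ₜ[A] (1 : B)) + r ⊗ₜ[A] (1 : B) := by ring
    rw [this]
    exact Ideal.add_mem _ (hle hr) h3
  have hbot : M.map (Ideal.Quotient.mk
      ((M.comap (algebraMap A' (A' ⊗[A] B))).map (algebraMap A' (A' ⊗[A] B)))) = ⊥ := by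
    rw [Ideal.map_eq_bot_iff_le_ker, Ideal.mk_ker]
    exact hMle
  haveI : Nontrivial ((A' ⊗[A] B) ⧸
      (M.comap (algebraMap A' (A' ⊗[A] B))).map (algebraMap A' (A' ⊗[A] B))) := by
    rw [Ideal.Quotient.nontrivial_iff]
    intro htop
    have : (M.comap (algebraMap A' (A' ⊗[A] B))).map (algebraMap A' (A' ⊗[A] B)) ≤ M :=
      Ideal.map_comap_le
    rw [htop] at this
    exact (Ideal.IsMaximal.ne_top ‹M.IsMaximal›) (top_le_iff.mp this)
  rw [h, hbot, Ideal.height_bot, add_zero]

end

/-- In a finite injective extension `A ⊆ A'` of domains with `A` universally catenary local, every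
maximal ideal of `A'` has height `dim A`. -/
theorem height_maximal_of_finite (A A' : Type u) [CommRing A] [IsDomain A] [IsLocalRing A]
    (hA : CAlg.IsUniversallyCatenary A) [CommRing A'] [IsDomain A'] [Algebra A A']
    [Module.Finite A A'] (hinj : Function.Injective (algebraMap A A'))
    (m' : Ideal A') [m'.IsMaximal] : m'.height = (maximalIdeal A).height := by
  haveI : Algebra.IsIntegral A A' := Algebra.IsIntegral.of_finite A A'
  haveI : FaithfulSMul A A' := (faithfulSMul_iff_algebraMap_injective A A').mpr hinj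
  have hc : m'.comap (algebraMap A A') = maximalIdeal A :=
    IsLocalRing.eq_maximalIdeal (Ideal.isMaximal_comap_of_isIntegral_of_isMaximal _)
  haveI : m'.LiesOver (maximalIdeal A) := ⟨hc.symm⟩
  have h := Groth.Agent.S0555.result A hA A' (maximalIdeal A) m'
  haveI : Algebra.IsAlgebraic (A ⧸ maximalIdeal A) (A' ⧸ m') :=
    Algebra.IsIntegral.isAlgebraic
  haveI : Algebra.IsAlgebraic A A' := Algebra.IsIntegral.isAlgebraic
  rw [_root_.trdeg_eq_zero, _root_.trdeg_eq_zero, add_zero, add_zero] at h
  exact Cardinal.ofENat_inj.mp h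

end Groth.Agent.Lib.Helper14.ExcFC
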