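import Mathlib
import Groth.Prelude.Def_EGA4b
import Groth.Prelude.Def_Found
import Groth.Agent.Lib.Helper14.ExcFC.Equidim
import Groth.Agent.Lib.Helper14.ExcFC.Height
import Groth.Agent.Lib.Helper14.NormalHomComp
import Groth.Agent.Lib.Helper14.NormalHomRed
import Groth.Agent.Lib.Helper14.IadicFibres
import Groth.Agent.Lib.Helper14.ComplQuot
import Groth.Agent.Lib.Helper14.ComplEtale
import Groth.Agent.Lib.Helper14.FormalEquidim
import Groth.Agent.Lib.Helper12.N2Field
import Groth.Agent.Lib.Helper8.UnibranchHens
import Groth.Agent.S2657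

/-!
# A universally catenary local domain with geometrically normal formal fibres is formally
equidimensional (helper14)
-/

set_option autoImplicit false
universe u

namespace Groth.Agent.Lib.Helper14.ExcFC

open IsLocalRing TensorProduct EGA4 Groth.Agent.Lib.Helper12

attribute [local instance] Algebra.TensorProduct.rightAlgebra

theorem isEquidim_cpl_of_domain (D : Type u) [CommRing D] [IsDomain D] [IsLocalRing D]
    [IsNoetherianRing D] (hUC : CAlg.IsUniversallyCatenary D)
    (hGN : EGA4.HasGeomNormalFormalFibres D) : EGA4.IsEquidim (Cpl D) := by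
  haveI : IsNoetherianRing (Cpl D) := ComplEtale.isNoetherianRing_completion D
  -- `D` is Nagata
  have hGR : EGA4.HasGeomReducedFormalFibres D := fun p _ =>
    Groth.Agent.Lib.Helper14.NormalHomRed.isGeometricallyReduced_of_isGeomNormal _ _ (hGN p)
  have hNag : CAlg.IsNagata D := Groth.Agent.S2657.result D hGR
  haveI hfin : Module.Finite D (integralClosure D (FractionRing D)) := by
    haveI : (⊥ : Ideal D).IsPrime := Ideal.isPrime_bot
    have h1 : N2.N2' (D ⧸ (⊥ : Ideal D)) := N2.N2'_of_isN2 _ (hNag.2 ⊥)
    have h2 : N2.N2' D := N2.N2'_of_ringEquiv (RingEquiv.quotientBot D) h1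
    exact h2 (FractionRing D) (IsFractionRing.injective D _)
      (N2.finGen_of_finiteDimensional D (FractionRing D) (FractionRing D))
  haveI : IsNoetherianRing (integralClosure D (FractionRing D)) := IsNoetherianRing.of_finite D _
  haveI : Algebra.IsIntegral D (integralClosure D (FractionRing D)) :=
    Algebra.IsIntegral.of_finite D _
  have hinjD : Function.Injective (algebraMap D (integralClosure D (FractionRing D))) := by
    intro a b hab
    apply IsFractionRing.injective D (FractionRing D)
    exact congrArg Subtype.val hab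
  -- the normal hom `D → Cpl D` and its base change
  have hNH : EGA4.IsNormalHom D (Cpl D) := ⟨inferInstance, hGN⟩
  have hNH' : EGA4.IsNormalHom (integralClosure D (FractionRing D))
      ((integralClosure D (FractionRing D)) ⊗[D] Cpl D) :=
    Groth.Agent.Lib.Helper14.NormalHomComp.isNormalHom_tensor_of_quasiFinite D (Cpl D) _ hNH
  haveI : IsNoetherianRing ((Cpl D) ⊗[D] (integralClosure D (FractionRing D))) :=
    IsNoetherianRing.of_finite (Cpl D) _
  haveI : IsNoetherianRing ((integralClosure D (FractionRing D)) ⊗[D] Cpl D) :=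
    isNoetherianRing_of_ringEquiv _ (Algebra.TensorProduct.comm D (Cpl D) _).toRingEquiv
  haveI : IsIntegrallyClosed (integralClosure D (FractionRing D)) :=
    integralClosure.isIntegrallyClosedOfFiniteExtension (FractionRing D)
  have hEn : EGA4.IsNormalRing ((integralClosure D (FractionRing D)) ⊗[D] Cpl D) :=
    Groth.Agent.Lib.Helper14.NormalHomComp.isNormalRing_of_isNormalHom _ _ hNH'
      (Groth.Agent.Lib.Helper14.IadicFibres.isNormalRing_of_isIntegrallyClosed _)
  haveI : Algebra.IsIntegral (Cpl D) ((integralClosure D (FractionRing D)) ⊗[D] Cpl D) :=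
    Groth.Agent.Lib.Helper8.UnibranchHens.isIntegral_right' D _ (Cpl D)
  refine isEquidim_of_integral_normal (Cpl D) ((integralClosure D (FractionRing D)) ⊗[D] Cpl D)
    ?_ ?_ ?_
  · exact Algebra.TensorProduct.includeRight_injective hinjD
  · intro M hM
    exact (hEn M).1
  · intro M hM
    have hres : ∀ b : Cpl D, ∃ a : D, b - algebraMap D (Cpl D) a ∈ maximalIdeal (Cpl D) :=
      Groth.Agent.Lib.Helper14.ComplQuot.exists_sub_mem_maximalIdeal D
    have hm : (maximalIdeal D).map (algebraMap D (Cpl D)) = maximalIdeal (Cpl D) :=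
      (AdicCompletion.maximalIdeal_eq_map (R := D)).symm
    rw [height_maximal_tensor D (Cpl D) _ hres hm M]
    haveI := Groth.Agent.Lib.Helper27.BrCpl.comap_includeLeft_isMaximal D (Cpl D)
      (integralClosure D (FractionRing D)) M
    rw [height_maximal_of_finite D _ hUC hinjD, IsLocalRing.maximalIdeal_height_eq_ringKrullDim,
      Groth.Agent.Lib.Helper14.FormalEquidim.ringKrullDim_cpl]

end Groth.Agent.Lib.Helper14.ExcFC
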