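import Mathlib
import Groth.Prelude.Def_EGA4b
import Groth.Prelude.Def_Found
import Groth.Agent.Lib.Helper14.ExcFC.Main
import Groth.Agent.Lib.Helper14.IadicFibresReg
import Groth.Agent.Lib.Helper26.RegularNormal
import Groth.Agent.S4754

/-!
# Excellent local rings are formally catenary (helper14)
-/

set_option autoImplicit false
universe u

namespace Groth.Agent.Lib.Helper14.ExcFC

open IsLocalRing TensorProduct EGA4

theorem isNormalRing_of_isRegularRing (T : Type u) [CommRing T] [IsRegularRing T] :
    EGA4.IsNormalRing T := by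
  intro q hq
  haveI : IsRegularLocalRing (Localization.AtPrime q) :=
    IsRegularRing.isRegularLocalRing_localization q
  exact ⟨Groth.Agent.Lib.Helper9.RegLocal.isDomain_of_isRegularLocalRing _,
    Groth.Agent.Lib.Helper26.RegularNormal.isIntegrallyClosed_of_isRegularLocalRing _⟩

theorem hasGeomNormalFormalFibres_of_isGRing (R : Type u) [CommRing R] [IsLocalRing R]
    (hG : CAlg.IsGRing R) : EGA4.HasGeomNormalFormalFibres R := by
  have hreg := Groth.Agent.Lib.Helper14.IadicFibresReg.isRegularHom_adicCompletion R hG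
    (maximalIdeal R)
  intro p hp k' _ _ hfin
  haveI := (hreg.2 p).2 k' hfin
  exact isNormalRing_of_isRegularRing _

/-- A quotient of a universally catenary ring is universally catenary. -/
theorem isUniversallyCatenary_quotient (A : Type u) [CommRing A]
    (hUC : CAlg.IsUniversallyCatenary A) (I : Ideal A) : CAlg.IsUniversallyCatenary (A ⧸ I) := by
  haveI : IsNoetherianRing A := hUC.1
  refine ⟨inferInstance, ?_⟩
  intro S _ _ hS
  letI : Algebra A S := ((algebraMap (A ⧸ I) S).comp (Ideal.Quotient.mk I)).toAlgebra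
  haveI : IsScalarTower A (A ⧸ I) S := IsScalarTower.of_algebraMap_eq (fun _ => rfl)
  have h0 : Algebra.FiniteType A (A ⧸ I) :=
    Algebra.FiniteType.of_surjective (Algebra.ofId A (A ⧸ I)) Ideal.Quotient.mk_surjective
  exact hUC.2 S (Algebra.FiniteType.trans (R := A) (S := A ⧸ I) (A := S) h0 hS)

/-- A universally catenary Noetherian local ring with geometrically normal formal fibres is
formally catenary. -/
theorem isFormallyCatenary_of_uc_geomNormal (A : Type u) [CommRing A] [IsLocalRing A]
    [IsNoetherianRing A] (hUC : CAlg.IsUniversallyCatenary A)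
    (hGN : EGA4.HasGeomNormalFormalFibres A) : EGA4.IsFormallyCatenary A := by
  intro p hp
  haveI : Nontrivial (A ⧸ p) := Ideal.Quotient.nontrivial_iff.mpr hp.ne_top
  have h1 : EGA4.HasGeomNormalFormalFibres (A ⧸ p) := Groth.Agent.S4754.result A hGN p
  have h2 : CAlg.IsUniversallyCatenary (A ⧸ p) := isUniversallyCatenary_quotient A hUC p
  exact isEquidim_cpl_of_domain (A ⧸ p) h2 h1

theorem isFormallyCatenary_of_isExcellent (A : Type u) [CommRing A] [IsLocalRing A]
    (hA : EGA4.IsExcellent A) :
    EGA4.IsFormallyCatenary A ∧ (EGA4.IsEquidim A ↔ EGA4.IsEquidim (EGA4.Cpl A)) := by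
  obtain ⟨hN, hUC, hG, _⟩ := hA
  haveI := hN
  have hGN := hasGeomNormalFormalFibres_of_isGRing A hG
  have hFC := isFormallyCatenary_of_uc_geomNormal A hUC hGN
  refine ⟨hFC, ?_⟩
  have h := Groth.Agent.Lib.Helper14.FormalEquidim.result_iff (A := A)
  constructor
  · intro hE
    exact h.mpr ⟨hE, fun p _ _ => hFC p⟩
  · intro hE
    exact (h.mp hE).1

end Groth.Agent.Lib.Helper14.ExcFC
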